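import Cfsg.Agent.Helper6.G23.Rels

/-! Column-wise version of helper11's `checkW` (keeps the kernel's memory small) (helper6, S2101). -/

set_option autoImplicit false

namespace Cfsg.Agent.Helper6.G23

open Cfsg Cfsg.Lie Cfsg.Agent.Helper11.ChevEval

/-- the check of one column -/
def checkCol (D : ChevalleyDatum) (p : ℕ) (w₁ w₂ : List (ℕ × ℤ)) (k : ℕ) : Bool :=
  (List.range (D.rank + D.nroots)).all fun j =>
    (coefB (runFV D p w₁ k) j - coefB (runFV D p w₂ k) j) % (p : ℤ) == 0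

theorem checkW_of_cols (D : ChevalleyDatum) (p : ℕ) (w₁ w₂ : List (ℕ × ℤ))
    (h : ∀ k < D.rank + D.nroots, checkCol D p w₁ w₂ k = true) : checkW D p w₁ w₂ = true := by
  unfold checkW
  rw [List.all_eq_true]
  intro k hk
  exact h k (List.mem_range.1 hk)

theorem checkW_G2_of_cols (w₁ w₂ : List (ℕ × ℤ))
    (h0 : checkCol chevG2 3 w₁ w₂ 0 = true) (h1 : checkCol chevG2 3 w₁ w₂ 1 = true)
    (h2 : checkCol chevG2 3 w₁ w₂ 2 = true) (h3 : checkCol chevG2 3 w₁ w₂ 3 = true)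
    (h4 : checkCol chevG2 3 w₁ w₂ 4 = true) (h5 : checkCol chevG2 3 w₁ w₂ 5 = true)
    (h6 : checkCol chevG2 3 w₁ w₂ 6 = true) (h7 : checkCol chevG2 3 w₁ w₂ 7 = true)
    (h8 : checkCol chevG2 3 w₁ w₂ 8 = true) (h9 : checkCol chevG2 3 w₁ w₂ 9 = true)
    (h10 : checkCol chevG2 3 w₁ w₂ 10 = true) (h11 : checkCol chevG2 3 w₁ w₂ 11 = true)
    (h12 : checkCol chevG2 3 w₁ w₂ 12 = true) (h13 : checkCol chevG2 3 w₁ w₂ 13 = true) :
    checkW chevG2 3 w₁ w₂ = true := by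
  apply checkW_of_cols
  intro k hk
  have hk' : k < 14 := hk
  interval_cases k <;> assumption

end Cfsg.Agent.Helper6.G23
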