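import Cfsg.Agent.Helper6.G23.ColChk

set_option autoImplicit false
set_option maxHeartbeats 0
set_option maxRecDepth 1000000

namespace Cfsg.Agent.Helper6.G23

open Cfsg Cfsg.Lie Cfsg.Agent.Helper11.ChevEval

theorem genChk1_c0 : checkCol chevG2 3 (expandW gen1) [(1, 1)] 0 = true := by decide +kernel
theorem genChk1_c1 : checkCol chevG2 3 (expandW gen1) [(1, 1)] 1 = true := by decide +kernel
theorem genChk1_c2 : checkCol chevG2 3 (expandW gen1) [(1, 1)] 2 = true := by decide +kernel
theorem genChk1_c3 : checkCol chevG2 3 (expandW gen1) [(1, 1)] 3 = true := by decide +kernel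
theorem genChk1_c4 : checkCol chevG2 3 (expandW gen1) [(1, 1)] 4 = true := by decide +kernel
theorem genChk1_c5 : checkCol chevG2 3 (expandW gen1) [(1, 1)] 5 = true := by decide +kernel
theorem genChk1_c6 : checkCol chevG2 3 (expandW gen1) [(1, 1)] 6 = true := by decide +kernel
theorem genChk1_c7 : checkCol chevG2 3 (expandW gen1) [(1, 1)] 7 = true := by decide +kernel
theorem genChk1_c8 : checkCol chevG2 3 (expandW gen1) [(1, 1)] 8 = true := by decide +kernel
theorem genChk1_c9 : checkCol chevG2 3 (expandW gen1) [(1, 1)] 9 = true := by decide +kernel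
theorem genChk1_c10 : checkCol chevG2 3 (expandW gen1) [(1, 1)] 10 = true := by decide +kernel
theorem genChk1_c11 : checkCol chevG2 3 (expandW gen1) [(1, 1)] 11 = true := by decide +kernel
theorem genChk1_c12 : checkCol chevG2 3 (expandW gen1) [(1, 1)] 12 = true := by decide +kernel
theorem genChk1_c13 : checkCol chevG2 3 (expandW gen1) [(1, 1)] 13 = true := by decide +kernel
theorem genChk1 : checkW chevG2 3 (expandW gen1) [(1, 1)] = true :=
  checkW_G2_of_cols _ _ genChk1_c0 genChk1_c1 genChk1_c2 genChk1_c3 genChk1_c4 genChk1_c5 genChk1_c6 genChk1_c7 genChk1_c8 genChk1_c9 genChk1_c10 genChk1_c11 genChk1_c12 genChk1_c13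

end Cfsg.Agent.Helper6.G23
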