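import Cfsg.Agent.Helper6.G23.ColChk

set_option autoImplicit false
set_option maxHeartbeats 0
set_option maxRecDepth 1000000

namespace Cfsg.Agent.Helper6.G23

open Cfsg Cfsg.Lie Cfsg.Agent.Helper11.ChevEval

theorem relChk5_c0 : checkCol chevG2 3 (expandW rel5) [] 0 = true := by decide +kernel
theorem relChk5_c1 : checkCol chevG2 3 (expandW rel5) [] 1 = true := by decide +kernel
theorem relChk5_c2 : checkCol chevG2 3 (expandW rel5) [] 2 = true := by decide +kernel
theorem relChk5_c3 : checkCol chevG2 3 (expandW rel5) [] 3 = true := by decide +kernel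
theorem relChk5_c4 : checkCol chevG2 3 (expandW rel5) [] 4 = true := by decide +kernel
theorem relChk5_c5 : checkCol chevG2 3 (expandW rel5) [] 5 = true := by decide +kernel
theorem relChk5_c6 : checkCol chevG2 3 (expandW rel5) [] 6 = true := by decide +kernel
theorem relChk5_c7 : checkCol chevG2 3 (expandW rel5) [] 7 = true := by decide +kernel
theorem relChk5_c8 : checkCol chevG2 3 (expandW rel5) [] 8 = true := by decide +kernel
theorem relChk5_c9 : checkCol chevG2 3 (expandW rel5) [] 9 = true := by decide +kernel
theorem relChk5_c10 : checkCol chevG2 3 (expandW rel5) [] 10 = true := by decide +kernel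
theorem relChk5_c11 : checkCol chevG2 3 (expandW rel5) [] 11 = true := by decide +kernel
theorem relChk5_c12 : checkCol chevG2 3 (expandW rel5) [] 12 = true := by decide +kernel
theorem relChk5_c13 : checkCol chevG2 3 (expandW rel5) [] 13 = true := by decide +kernel
theorem relChk5 : checkW chevG2 3 (expandW rel5) [] = true :=
  checkW_G2_of_cols _ _ relChk5_c0 relChk5_c1 relChk5_c2 relChk5_c3 relChk5_c4 relChk5_c5 relChk5_c6 relChk5_c7 relChk5_c8 relChk5_c9 relChk5_c10 relChk5_c11 relChk5_c12 relChk5_c13

end Cfsg.Agent.Helper6.G23
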