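import Cfsg.Agent.Helper6.G23.ColChk

set_option autoImplicit false
set_option maxHeartbeats 0
set_option maxRecDepth 1000000

namespace Cfsg.Agent.Helper6.G23

open Cfsg Cfsg.Lie Cfsg.Agent.Helper11.ChevEval

theorem relChk0_c0 : checkCol chevG2 3 (expandW rel0) [] 0 = true := by decide +kernel
theorem relChk0_c1 : checkCol chevG2 3 (expandW rel0) [] 1 = true := by decide +kernel
theorem relChk0_c2 : checkCol chevG2 3 (expandW rel0) [] 2 = true := by decide +kernel
theorem relChk0_c3 : checkCol chevG2 3 (expandW rel0) [] 3 = true := by decide +kernel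
theorem relChk0_c4 : checkCol chevG2 3 (expandW rel0) [] 4 = true := by decide +kernel
theorem relChk0_c5 : checkCol chevG2 3 (expandW rel0) [] 5 = true := by decide +kernel
theorem relChk0_c6 : checkCol chevG2 3 (expandW rel0) [] 6 = true := by decide +kernel
theorem relChk0_c7 : checkCol chevG2 3 (expandW rel0) [] 7 = true := by decide +kernel
theorem relChk0_c8 : checkCol chevG2 3 (expandW rel0) [] 8 = true := by decide +kernel
theorem relChk0_c9 : checkCol chevG2 3 (expandW rel0) [] 9 = true := by decide +kernel
theorem relChk0_c10 : checkCol chevG2 3 (expandW rel0) [] 10 = true := by decide +kernel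
theorem relChk0_c11 : checkCol chevG2 3 (expandW rel0) [] 11 = true := by decide +kernel
theorem relChk0_c12 : checkCol chevG2 3 (expandW rel0) [] 12 = true := by decide +kernel
theorem relChk0_c13 : checkCol chevG2 3 (expandW rel0) [] 13 = true := by decide +kernel
theorem relChk0 : checkW chevG2 3 (expandW rel0) [] = true :=
  checkW_G2_of_cols _ _ relChk0_c0 relChk0_c1 relChk0_c2 relChk0_c3 relChk0_c4 relChk0_c5 relChk0_c6 relChk0_c7 relChk0_c8 relChk0_c9 relChk0_c10 relChk0_c11 relChk0_c12 relChk0_c13

theorem relChk1_c0 : checkCol chevG2 3 (expandW rel1) [] 0 = true := by decide +kernel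
theorem relChk1_c1 : checkCol chevG2 3 (expandW rel1) [] 1 = true := by decide +kernel
theorem relChk1_c2 : checkCol chevG2 3 (expandW rel1) [] 2 = true := by decide +kernel
theorem relChk1_c3 : checkCol chevG2 3 (expandW rel1) [] 3 = true := by decide +kernel
theorem relChk1_c4 : checkCol chevG2 3 (expandW rel1) [] 4 = true := by decide +kernel
theorem relChk1_c5 : checkCol chevG2 3 (expandW rel1) [] 5 = true := by decide +kernel
theorem relChk1_c6 : checkCol chevG2 3 (expandW rel1) [] 6 = true := by decide +kernel
theorem relChk1_c7 : checkCol chevG2 3 (expandW rel1) [] 7 = true := by decide +kernel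
theorem relChk1_c8 : checkCol chevG2 3 (expandW rel1) [] 8 = true := by decide +kernel
theorem relChk1_c9 : checkCol chevG2 3 (expandW rel1) [] 9 = true := by decide +kernel
theorem relChk1_c10 : checkCol chevG2 3 (expandW rel1) [] 10 = true := by decide +kernel
theorem relChk1_c11 : checkCol chevG2 3 (expandW rel1) [] 11 = true := by decide +kernel
theorem relChk1_c12 : checkCol chevG2 3 (expandW rel1) [] 12 = true := by decide +kernel
theorem relChk1_c13 : checkCol chevG2 3 (expandW rel1) [] 13 = true := by decide +kernel
theorem relChk1 : checkW chevG2 3 (expandW rel1) [] = true :=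
  checkW_G2_of_cols _ _ relChk1_c0 relChk1_c1 relChk1_c2 relChk1_c3 relChk1_c4 relChk1_c5 relChk1_c6 relChk1_c7 relChk1_c8 relChk1_c9 relChk1_c10 relChk1_c11 relChk1_c12 relChk1_c13

theorem relChk2_c0 : checkCol chevG2 3 (expandW rel2) [] 0 = true := by decide +kernel
theorem relChk2_c1 : checkCol chevG2 3 (expandW rel2) [] 1 = true := by decide +kernel
theorem relChk2_c2 : checkCol chevG2 3 (expandW rel2) [] 2 = true := by decide +kernel
theorem relChk2_c3 : checkCol chevG2 3 (expandW rel2) [] 3 = true := by decide +kernel
theorem relChk2_c4 : checkCol chevG2 3 (expandW rel2) [] 4 = true := by decide +kernel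
theorem relChk2_c5 : checkCol chevG2 3 (expandW rel2) [] 5 = true := by decide +kernel
theorem relChk2_c6 : checkCol chevG2 3 (expandW rel2) [] 6 = true := by decide +kernel
theorem relChk2_c7 : checkCol chevG2 3 (expandW rel2) [] 7 = true := by decide +kernel
theorem relChk2_c8 : checkCol chevG2 3 (expandW rel2) [] 8 = true := by decide +kernel
theorem relChk2_c9 : checkCol chevG2 3 (expandW rel2) [] 9 = true := by decide +kernel
theorem relChk2_c10 : checkCol chevG2 3 (expandW rel2) [] 10 = true := by decide +kernel
theorem relChk2_c11 : checkCol chevG2 3 (expandW rel2) [] 11 = true := by decide +kernel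
theorem relChk2_c12 : checkCol chevG2 3 (expandW rel2) [] 12 = true := by decide +kernel
theorem relChk2_c13 : checkCol chevG2 3 (expandW rel2) [] 13 = true := by decide +kernel
theorem relChk2 : checkW chevG2 3 (expandW rel2) [] = true :=
  checkW_G2_of_cols _ _ relChk2_c0 relChk2_c1 relChk2_c2 relChk2_c3 relChk2_c4 relChk2_c5 relChk2_c6 relChk2_c7 relChk2_c8 relChk2_c9 relChk2_c10 relChk2_c11 relChk2_c12 relChk2_c13

end Cfsg.Agent.Helper6.G23
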