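import Mathlib
import Cfsg.Agent.S1059
import Cfsg.Agent.Helper6.SchG23.Inst
import Cfsg.Agent.Helper6.SchG23.MFacts
import Cfsg.Agent.Helper19.Schur.Table
import Cfsg.Agent.Helper6.Chev.UProd
import Cfsg.Agent.Helper6.G23.RelChkS
import Cfsg.Agent.Helper6.G23.RelChk3
import Cfsg.Agent.Helper6.G23.RelChk4
import Cfsg.Agent.Helper6.G23.RelChk5
import Cfsg.Agent.Helper6.G23.RelChk6
import Cfsg.Agent.Helper6.G23.RelChk7
import Cfsg.Agent.Helper6.G23.GenChk0
import Cfsg.Agent.Helper6.G23.GenChk1
import Cfsg.Agent.Helper6.G23.GenChk2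
import Cfsg.Agent.Helper6.G23.GenChk3
import Cfsg.Agent.Helper6.G23.GenChk4
import Cfsg.Agent.Helper6.G23.GenChk5
import Cfsg.Agent.Helper6.G23.GenChk6
import Cfsg.Agent.Helper6.G23.GenChk7
import Cfsg.Agent.Helper6.G23.GenChk8
import Cfsg.Agent.Helper6.G23.GenChk9
import Cfsg.Agent.Helper6.G23.GenChk10
import Cfsg.Agent.Helper6.G23.GenChk11

/-! The Schur multiplier of `G₂(3)` is cyclic of order three (helper6): the concrete side (two
generators of `chevG2.group F`, `|F| = 3`, the relators, generation) and the final statement. -/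

set_option autoImplicit false
set_option linter.all false
set_option maxRecDepth 100000

namespace Cfsg.Agent.Helper6.G23

open Cfsg Cfsg.Lie Cfsg.Agent.Helper6 Cfsg.Agent.Helper11.ChevEval Cfsg.Agent.Helper19.TCS
  Cfsg.Agent.Helper19.TCL Cfsg.Agent.Helper19.TCM Cfsg.Agent.Helper19.Schur

universe u

variable {F : Type u} [Field F] [Fintype F]

theorem charP_three (hF : Fintype.card F = 3) : CharP F 3 := by
  have h3 : ((3 : ℕ) : F) = 0 := by
    rw [← hF]; exact Nat.cast_card_eq_zero F
  have hchar : ringChar F = 3 := CharP.ringChar_of_prime_eq_zero Nat.prime_three h3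
  exact hchar ▸ ringChar.charP F

theorem eq_zero_or_one_or_neg_one (hF : Fintype.card F = 3) (t : F) : t = 0 ∨ t = 1 ∨ t = -1 := by
  haveI := charP_three hF
  classical
  have h01 : (0 : F) ≠ 1 := zero_ne_one
  have h3 : (3 : F) = 0 := by
    have := CharP.cast_eq_zero F 3
    exact_mod_cast this
  have h1m : (1 : F) ≠ -1 := by
    intro h
    have h2 : (2 : F) = 0 := by
      have : (1 : F) + 1 = 0 := by nth_rewrite 2 [h]; ring
      rw [← this]; norm_num
    apply h01
    have : (1 : F) = 3 - 2 := by norm_num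
    rw [this, h3, h2, sub_zero]
  have h0m : (0 : F) ≠ -1 := by
    intro h
    apply h01
    have := congrArg Neg.neg h
    simpa using this
  have hcard : ({0, 1, -1} : Finset F).card = 3 := by
    rw [Finset.card_insert_of_notMem, Finset.card_insert_of_notMem, Finset.card_singleton]
    · simpa using h1m
    · simp only [Finset.mem_insert, Finset.mem_singleton, not_or]
      exact ⟨h01, h0m⟩
  have huniv : ({0, 1, -1} : Finset F) = Finset.univ := by
    apply Finset.eq_univ_of_card
    rw [hcard, hF]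
  have := Finset.mem_univ t
  rw [← huniv] at this
  simpa using this

theorem gc2_mem_closure {Γ : Type*} [Group Γ] (a b : Γ) (l : ℕ) :
    gc2 a b l ∈ Subgroup.closure ({a, b} : Set Γ) := by
  have ha : a ∈ Subgroup.closure ({a, b} : Set Γ) := Subgroup.subset_closure (by simp)
  have hb : b ∈ Subgroup.closure ({a, b} : Set Γ) := Subgroup.subset_closure (by simp)
  unfold gc2
  split
  · exact ha
  · exact inv_mem ha
  · exact hb
  · exact inv_mem hb
  · exact one_mem _

theorem prodw_mem_closure {Γ : Type*} [Group Γ] (a b : Γ) :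
    ∀ w : List ℕ, prodw (gc2 a b) w ∈ Subgroup.closure ({a, b} : Set Γ)
  | [] => one_mem _
  | l :: w => mul_mem (prodw_mem_closure a b w) (gc2_mem_closure a b l)

section

variable (F)

theorem xU_one_mem [CharP F 3] (r : ℕ) (hr : r < 12) :
    xU Ree.hB2 r (1 : F) ∈ Subgroup.closure ({xGL F, yGL F} : Set (GL chevG2.Idx F)) := by
  have key : ∀ (w : List ℕ), checkW chevG2 3 (expandW w) [(r, 1)] = true →
      xU Ree.hB2 r (1 : F) ∈ Subgroup.closure ({xGL F, yGL F} : Set (GL chevG2.Idx F)) := by
    intro w h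
    rw [← prodw_eq_root_of_check F w r hr h]
    exact prodw_mem_closure _ _ w
  interval_cases r
  · exact key _ genChk0
  · exact key _ genChk1
  · exact key _ genChk2
  · exact key _ genChk3
  · exact key _ genChk4
  · exact key _ genChk5
  · exact key _ genChk6
  · exact key _ genChk7
  · exact key _ genChk8
  · exact key _ genChk9
  · exact key _ genChk10
  · exact key _ genChk11

theorem xGL_mem : xGL F ∈ chevG2.group F := wU_mem_group F _ lt_of_mem_xwZ

theorem yGL_mem : yGL F ∈ chevG2.group F := wU_mem_group F _ lt_of_mem_ywZ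

end

theorem group_le_closure (hF : Fintype.card F = 3) :
    chevG2.group F ≤ Subgroup.closure ({xGL F, yGL F} : Set (GL chevG2.Idx F)) := by
  haveI := charP_three hF
  unfold ChevalleyDatum.group
  rw [Subgroup.closure_le]
  rintro g ⟨r, t, hg⟩
  have hr : r.val < 12 := r.isLt
  have hgx : g = xU Ree.hB2 r.val t := by
    apply Units.ext
    rw [hg, xU_val, x_of_lt r.isLt]
  rw [hgx]
  rcases eq_zero_or_one_or_neg_one hF t with rfl | rfl | rfl
  · rw [xU_zero]
    exact one_mem _
  · exact xU_one_mem F r.val hr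
  · rw [xU_neg]
    exact inv_mem (xU_one_mem F r.val hr)

/-- the generators in the Chevalley group -/
noncomputable def xG (F : Type u) [Field F] [Fintype F] : ↥(chevG2.group F) := ⟨xGL F, xGL_mem F⟩
noncomputable def yG (F : Type u) [Field F] [Fintype F] : ↥(chevG2.group F) := ⟨yGL F, yGL_mem F⟩

theorem closure_xG_yG (hF : Fintype.card F = 3) :
    Subgroup.closure ({xG F, yG F} : Set ↥(chevG2.group F)) = ⊤ := by
  rw [eq_top_iff]
  intro g _
  have hg : (g : GL chevG2.Idx F) ∈ Subgroup.closure ({xGL F, yGL F} : Set (GL chevG2.Idx F)) :=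
    group_le_closure hF g.2
  have hmap : (Subgroup.closure ({xG F, yG F} : Set ↥(chevG2.group F))).map (chevG2.group F).subtype =
      Subgroup.closure ({xGL F, yGL F} : Set (GL chevG2.Idx F)) := by
    rw [MonoidHom.map_closure]
    congr 1
    ext z
    simp only [Set.mem_image, Set.mem_insert_iff, Set.mem_singleton_iff]
    constructor
    · rintro ⟨w, hw | hw, rfl⟩
      · left; rw [hw]; rfl
      · right; rw [hw]; rfl
    · rintro (h | h)
      · exact ⟨xG F, Or.inl rfl, h.symm⟩
      · exact ⟨yG F, Or.inr rfl, h.symm⟩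
  rw [← hmap] at hg
  obtain ⟨g', hg', hgg'⟩ := Subgroup.mem_map.1 hg
  have : g' = g := Subtype.ext hgg'
  rwa [this] at hg'

theorem rels_eq : SchG23.rels = [rel0, rel1, rel2, rel3, rel4, rel5, rel6, rel7] := by decide

theorem hrelGL (hF : Fintype.card F = 3) : ∀ w ∈ SchG23.rels, prodw (gc2 (xGL F) (yGL F)) w = 1 := by
  haveI := charP_three hF
  intro w hw
  rw [rels_eq] at hw
  simp only [List.mem_cons, List.not_mem_nil, or_false] at hw
  rcases hw with rfl | rfl | rfl | rfl | rfl | rfl | rfl | rfl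
  · exact prodw_eq_one_of_check F _ relChk0
  · exact prodw_eq_one_of_check F _ relChk1
  · exact prodw_eq_one_of_check F _ relChk2
  · exact prodw_eq_one_of_check F _ relChk3
  · exact prodw_eq_one_of_check F _ relChk4
  · exact prodw_eq_one_of_check F _ relChk5
  · exact prodw_eq_one_of_check F _ relChk6
  · exact prodw_eq_one_of_check F _ relChk7

theorem hrelG (hF : Fintype.card F = 3) : ∀ w ∈ SchG23.rels, prodw (gc2 (xG F) (yG F)) w = 1 := by
  intro w hw
  apply Subtype.ext
  have h := map_prodw (chevG2.group F).subtype (xG F) (yG F) w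
  rw [Subgroup.coe_subtype] at h
  rw [h]
  exact hrelGL hF w hw

/-! ### The model data -/

def c1m : Fin 9 → ℤ := ![0, -1, 91, -98, 0, 0, -14, 28, 0]
def c2m : Fin 9 → ℤ := ![0, -3, 272, -293, 0, 0, -42, 84, 0]

theorem relsM_eq : SchG23.relsM = SchG23.rels := by decide

/-- the Schur multiplier of `G₂(3)` is cyclic of order three. -/
theorem schur_G23 (hF : Fintype.card F = 3) :
    Cfsg.HasCyclicSchurMultiplier ↥(chevG2.group F) 3 := by
  have hcard : Nat.card ↥(chevG2.group F) = 4245696 := by
    rw [Cfsg.Agent.S1059.result hF]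
    norm_num
  haveI : Finite ↥(chevG2.group F) := Nat.finite_of_card_ne_zero (by rw [hcard]; norm_num)
  have hT1' : ∀ (Δ : Type u) [Group Δ] (a b : Δ), Subgroup.closure {a, b} = (⊤ : Subgroup Δ) →
      (∀ w ∈ SchG23.rels, prodw (gc2 a b) w = 1) →
        Finite Δ ∧ Nat.card Δ ≤ Nat.card ↥(chevG2.group F) := by
    intro Δ _ a b h1 h2
    rw [hcard]
    exact SchG23.hT1 Δ a b h1 h2
  have hM := SchG23.relsM_ok
  rw [relsM_eq] at hM
  refine ⟨?_, ?_⟩
  · exact exists_stem_of_table (xG F) (yG F) (closure_xG_yG hF) SchG23.rels hT1' (hrelG hF)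
      SchG23.modelOK (by norm_num) SchG23.phisM
      (by decide) (by decide) hM 9 SchG23.e1 SchG23.e2 c1m c2m SchG23.he1 SchG23.he2
      (by constructor <;> rw [SchG23.Efun_eq] <;> decide)
      (by constructor <;> rw [SchG23.Efun_eq] <;> decide)
      (by rw [SchG23.sum_nine]; decide) (by rw [SchG23.sum_nine]; decide) [6] (by decide)
  · exact exists_surjective_of_stem (xG F) (yG F) (closure_xG_yG hF) SchG23.rels 9 (by decide)
      (hrelG hF) hT1' 7 SchG23.lam SchG23.hT2
      SchG23.e1 SchG23.e2 SchG23.he1 SchG23.he2 SchG23.c1 SchG23.c2 SchG23.g0 3 SchG23.hc1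
      SchG23.hc2 SchG23.hg0 SchG23.hL1 SchG23.hL2

end Cfsg.Agent.Helper6.G23
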