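import Cfsg.Agent.Helper6.G23.Words

/-! The relators and the words for the root elements (helper6, S2101). -/

set_option autoImplicit false

namespace Cfsg.Agent.Helper6.G23

def rel0 : List ℕ := [0, 0, 0, 0, 0, 0, 0, 0, 0, 0, 0, 0, 0]
def rel1 : List ℕ := [2, 2]
def rel2 : List ℕ := [2, 1, 2, 1, 2, 1]
def rel3 : List ℕ := [2, 0, 0, 0, 2, 1, 1, 1, 2, 0, 0, 0, 2, 1, 1, 1, 2, 0, 0, 0, 2, 1, 1, 1, 2, 0, 0, 0, 2, 1, 1, 1]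
def rel4 : List ℕ := [2, 0, 0, 0, 0, 2, 1, 1, 1, 1, 1, 1, 2, 0, 0, 0, 0, 2, 1, 1, 1, 1, 1, 1, 2, 0, 0, 0, 0, 2, 1, 1, 1, 1, 1, 1]
def rel5 : List ℕ := [2, 1, 1, 1, 2, 0, 0, 2, 1, 1, 1, 1, 2, 1, 1, 1, 1, 1, 2, 1, 1, 1, 2, 0, 0, 2, 1, 1, 1, 1, 2, 1, 1, 1, 1, 1]
def rel6 : List ℕ := [2, 1, 1, 1, 1, 2, 0, 0, 2, 1, 1, 1, 2, 1, 1, 1, 1, 1, 2, 1, 1, 1, 1, 2, 0, 0, 2, 1, 1, 1, 2, 1, 1, 1, 1, 1]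
def rel7 : List ℕ := [2, 0, 0, 0, 0, 0, 2, 1, 1, 1, 1, 1, 2, 0, 0, 0, 0, 0, 2, 1, 1, 1, 1, 1, 2, 0, 0, 0, 0, 0, 2, 1, 1, 1, 1, 1]

def gen0 : List ℕ := [1, 1, 1, 1, 2, 1, 1, 1, 2, 0, 0, 2, 1, 1, 1, 1, 1, 2, 0, 0, 2, 1, 1, 2, 0, 0, 0, 2, 1]
def gen1 : List ℕ := [0, 0, 0, 0, 0, 0, 2, 1, 1, 1, 1, 2, 0, 2, 1, 1, 2, 0, 0, 0, 2, 1, 1, 1, 2, 0, 2, 1, 1, 2]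
def gen2 : List ℕ := [1, 2, 1, 1, 2, 0, 0, 2, 1, 1, 1, 1, 1, 2, 0, 0, 2, 1, 1, 2]
def gen3 : List ℕ := [0, 2, 1, 1, 2, 0, 0, 0, 0, 0, 2, 1, 1, 2, 0, 2]
def gen4 : List ℕ := [0, 0, 2, 1, 1, 1, 1, 1, 2, 0, 0, 0]
def gen5 : List ℕ := [1, 1, 1, 2, 1, 1, 1, 1, 2, 0, 0, 2, 0, 0, 2, 1, 1, 2, 0, 2, 1, 1, 1, 2, 0, 0]
def gen6 : List ℕ := [0, 0, 2, 0, 0, 0, 2, 0, 0, 0, 0, 2, 1, 1, 1, 2, 0, 0, 0, 0, 2, 0, 0, 0, 0, 0, 0, 2, 0, 0, 0, 2, 0]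
def gen7 : List ℕ := [0, 2, 1, 1, 2, 0, 0, 0, 0, 0, 2, 1, 1, 2, 0, 0, 2, 1, 1, 2, 0, 0, 0, 0, 0, 2, 1, 1, 2, 0]
def gen8 : List ℕ := [1, 1, 1, 2, 0, 0, 0, 0, 2, 1, 1, 1, 1, 1, 1, 2, 0, 0]
def gen9 : List ℕ := [1, 1, 2, 1, 1, 1, 2, 0, 0, 0, 2, 0, 0, 2, 1, 1, 2, 0, 0, 2, 0, 0, 0, 2, 1, 1, 2, 0, 2, 1]
def gen10 : List ℕ := [0, 0, 0, 0, 0, 2, 0, 0, 0, 0, 0, 0, 2, 0, 0, 2, 1, 1, 1, 1, 2, 0, 0, 0, 0, 0, 0, 2, 0, 0, 0, 0, 2]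
def gen11 : List ℕ := [0, 0, 0, 0, 0, 2, 1, 1, 1, 2, 0, 0, 2, 0, 0, 2, 1, 1, 1, 2, 0, 0, 0, 0, 0]

end Cfsg.Agent.Helper6.G23
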