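import Mathlib
import Cfsg.Agent.Helper11.ChevEval
import Cfsg.Agent.Helper6.Ree.G2Base
import Cfsg.Agent.Helper6.Chev.GLvl
import Cfsg.Agent.Helper19.Schur.Basic

/-!
Two generators `x` (order 13) and `y` (an involution) of `G₂(3)` as words in root elements, and the
translation of words in `x, y` into words in root elements (helper6, for S2101).
-/

set_option autoImplicit false
set_option linter.unusedSectionVars false
set_option linter.unusedVariables false

namespace Cfsg.Agent.Helper6.G23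

open Cfsg Cfsg.Lie Cfsg.Agent.Helper6 Cfsg.Agent.Helper11.ChevEval Cfsg.Agent.Helper19.TCS
  Cfsg.Agent.Helper19.Schur

/-- `x = x₀(1) x₄(1) x₉(1)`, of order 13 -/
def xwZ : List (ℕ × ℤ) := [(0, 1), (4, 1), (9, 1)]

/-- `y`, an involution (a conjugate of `h₇(-1)`) -/
def ywZ : List (ℕ × ℤ) :=
  [(9, 1), (3, -1), (7, 1), (4, -1), (7, -1), (4, -1), (7, 1), (3, 1), (9, -1)]

/-- the inverse word -/
def invW (w : List (ℕ × ℤ)) : List (ℕ × ℤ) := w.reverse.map fun q => (q.1, -q.2)

/-- the word of a letter: `0 ↦ x`, `1 ↦ x⁻¹`, `2 ↦ y`, `3 ↦ y⁻¹` -/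
def letterW : ℕ → List (ℕ × ℤ)
  | 0 => xwZ
  | 1 => invW xwZ
  | 2 => ywZ
  | 3 => invW ywZ
  | _ => []

/-- the root-element word of a word in the letters (`prodw` convention: the list is the reversed
product) -/
def expandW : List ℕ → List (ℕ × ℤ)
  | [] => []
  | l :: w => expandW w ++ letterW l

theorem lt_of_mem_xwZ : ∀ q ∈ xwZ, q.1 < chevG2.nroots := by decide

theorem lt_of_mem_ywZ : ∀ q ∈ ywZ, q.1 < chevG2.nroots := by decide

theorem lt_of_mem_invW {w : List (ℕ × ℤ)} (h : ∀ q ∈ w, q.1 < chevG2.nroots) :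
    ∀ q ∈ invW w, q.1 < chevG2.nroots := by
  intro q hq
  unfold invW at hq
  rw [List.mem_map] at hq
  obtain ⟨q', hq', rfl⟩ := hq
  exact h q' (List.mem_reverse.1 hq')

theorem lt_of_mem_letterW (l : ℕ) : ∀ q ∈ letterW l, q.1 < chevG2.nroots := by
  match l with
  | 0 => exact lt_of_mem_xwZ
  | 1 => exact lt_of_mem_invW lt_of_mem_xwZ
  | 2 => exact lt_of_mem_ywZ
  | 3 => exact lt_of_mem_invW lt_of_mem_ywZ
  | (n + 4) => intro q hq; simp [letterW] at hq

theorem lt_of_mem_expandW : ∀ (w : List ℕ), ∀ q ∈ expandW w, q.1 < chevG2.nroots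
  | [] => by intro q hq; simp [expandW] at hq
  | l :: w => by
    intro q hq
    rw [expandW, List.mem_append] at hq
    rcases hq with h | h
    · exact lt_of_mem_expandW w q h
    · exact lt_of_mem_letterW l q h

variable (F : Type*) [Field F]

/-- cast an integer word to the field -/
def castW (w : List (ℕ × ℤ)) : List (ℕ × F) := w.map fun q => (q.1, ((q.2 : ℤ) : F))

/-- the unit of an integer word -/
noncomputable def wU (w : List (ℕ × ℤ)) : GL chevG2.Idx F := wordU Ree.hB2 (castW F w)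

theorem wU_val (w : List (ℕ × ℤ)) :
    ((wU F w : GL chevG2.Idx F) : Matrix chevG2.Idx chevG2.Idx F) =
      chevG2.wordMat F (w.map fun q => (q.1, ((q.2 : ℤ) : F))) := by
  unfold wU castW
  rw [wordU_val]

theorem wU_nil : wU F [] = 1 := rfl

theorem wU_append (u v : List (ℕ × ℤ)) : wU F (u ++ v) = wU F u * wU F v := by
  unfold wU castW wordU
  rw [List.map_append, List.map_append, List.prod_append]

theorem wU_mem_group (w : List (ℕ × ℤ)) (hw : ∀ q ∈ w, q.1 < chevG2.nroots) :
    wU F w ∈ chevG2.group F := by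
  unfold wU
  apply wordU_mem_group
  intro p hp
  unfold castW at hp
  rw [List.mem_map] at hp
  obtain ⟨q, hq, rfl⟩ := hp
  exact hw q hq

theorem xU_neg (r : ℕ) (t : F) : xU Ree.hB2 r (-t) = (xU Ree.hB2 r t)⁻¹ := by
  rw [eq_inv_iff_mul_eq_one]
  apply Units.ext
  rw [Units.val_mul, xU_val, xU_val, Units.val_one]
  exact x_neg_mul Ree.hB2 r t

theorem wU_invW (w : List (ℕ × ℤ)) : wU F (invW w) = (wU F w)⁻¹ := by
  induction w with
  | nil => simp [invW, wU, castW, wordU]
  | cons q w ih =>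
    have e1 : invW (q :: w) = invW w ++ [(q.1, -q.2)] := by
      simp [invW]
    have e2 : wU F (q :: w) = wU F [q] * wU F w := by
      rw [← wU_append]; rfl
    rw [e1, wU_append, ih, e2, mul_inv_rev]
    congr 1
    unfold wU castW wordU
    simp only [List.map_cons, List.map_nil, List.prod_cons, List.prod_nil, mul_one]
    push_cast
    exact xU_neg F q.1 _

/-- the two generators as units -/
noncomputable def xGL : GL chevG2.Idx F := wU F xwZ
noncomputable def yGL : GL chevG2.Idx F := wU F ywZ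

theorem gc2_eq_wU (l : ℕ) : gc2 (xGL F) (yGL F) l = wU F (letterW l) := by
  match l with
  | 0 => rfl
  | 1 => exact (wU_invW F xwZ).symm
  | 2 => rfl
  | 3 => exact (wU_invW F ywZ).symm
  | (n + 4) => rfl

theorem prodw_eq_wU : ∀ w : List ℕ, prodw (gc2 (xGL F) (yGL F)) w = wU F (expandW w)
  | [] => rfl
  | l :: w => by
    rw [prodw, expandW, wU_append, prodw_eq_wU w, gc2_eq_wU]

/-- two words in the letters whose root-element words pass the check define the same element -/
theorem wU_eq_of_check [CharP F 3] {w₁ w₂ : List (ℕ × ℤ)} (h₁ : ∀ q ∈ w₁, q.1 < chevG2.nroots)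
    (h₂ : ∀ q ∈ w₂, q.1 < chevG2.nroots) (h : checkW chevG2 3 w₁ w₂ = true) :
    wU F w₁ = wU F w₂ := by
  apply Units.ext
  rw [wU_val, wU_val]
  exact wordMat_eq_of_check Ree.hB2 h₁ h₂ h

theorem prodw_eq_one_of_check [CharP F 3] (w : List ℕ) (h : checkW chevG2 3 (expandW w) [] = true) :
    prodw (gc2 (xGL F) (yGL F)) w = 1 := by
  rw [prodw_eq_wU, wU_eq_of_check F (lt_of_mem_expandW w) (by simp) h, wU_nil]

theorem prodw_eq_root_of_check [CharP F 3] (w : List ℕ) (r : ℕ) (hr : r < chevG2.nroots)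
    (h : checkW chevG2 3 (expandW w) [(r, 1)] = true) :
    prodw (gc2 (xGL F) (yGL F)) w = xU Ree.hB2 r 1 := by
  rw [prodw_eq_wU, wU_eq_of_check F (lt_of_mem_expandW w) (by simpa using hr) h]
  unfold wU castW wordU
  simp

end Cfsg.Agent.Helper6.G23
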